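import Groth.Prelude.Def_FibClv
import Mathlib.CategoryTheory.Bicategory.Grothendieck
import Mathlib.CategoryTheory.Bicategory.Functor.LocallyDiscrete

/-!
A category over a base with a splitting is isomorphic over the base to the category built from the
strict functor of its fibres.
-/

set_option backward.isDefEq.respectTransparency false
set_option backward.isDefEq.respectTransparency.types false
set_option autoImplicit false

universe v₁ v₂ u₁ u₂

open CategoryTheory CategoryTheory.Functor Opposite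

namespace Groth.Agent.SplitFib

variable {𝒮 : Type u₁} [Category.{v₁} 𝒮] {𝒳 : Type u₂} [Category.{v₂} 𝒳] {p : 𝒳 ⥤ 𝒮}
variable (K : FibCat.Cleavage p)

theorem val_eqToHom {S : 𝒮} {a b : p.Fiber S} (h : a = b) :
    (eqToHom h).1 = eqToHom (congrArg Subtype.val h) := by
  subst h; rfl

theorem val_comp {S : 𝒮} {a b c : p.Fiber S} (φ : a ⟶ b) (ψ : b ⟶ c) : (φ ≫ ψ).1 = φ.1 ≫ ψ.1 := rfl

theorem inv_fac {R S : 𝒮} (f : R ⟶ S) {a b : p.Fiber S} (φ : a ⟶ b) :
    ((K.inverseImage f).map φ).1 ≫ K.lift b.2 f = K.lift a.2 f ≫ φ.1 :=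
  IsCartesian.fac p f (K.lift b.2 f) (K.lift a.2 f ≫ Fiber.fiberInclusion.map φ)

theorem lift_congr {R S : 𝒮} {f f' : R ⟶ S} (h : f = f') {a : p.Fiber S} :
    eqToHom (by rw [h]) ≫ K.lift a.2 f' = K.lift a.2 f := by
  subst h; simp

theorem hom_ext_lift {R S : 𝒮} (f : R ⟶ S) {a : p.Fiber R} {b : p.Fiber S}
    {χ χ' : a ⟶ (K.inverseImage f).obj b}
    (h : χ.1 ≫ K.lift b.2 f = χ'.1 ≫ K.lift b.2 f) : χ = χ' := by
  haveI : p.IsHomLift (𝟙 R) χ.1 := χ.2
  haveI : p.IsHomLift (𝟙 R) χ'.1 := χ'.2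
  exact Subtype.ext (IsCartesian.ext p f (K.lift b.2 f) χ.1 χ'.1 h)

variable {K} (hK : K.IsSplitting)

include hK

theorem obj_id {S : 𝒮} (a : p.Fiber S) : (K.inverseImage (𝟙 S)).obj a = a :=
  Subtype.ext (hK.1 a.2).1

theorem lift_id {S : 𝒮} (a : p.Fiber S) :
    K.lift a.2 (𝟙 S) = eqToHom (congrArg Subtype.val (obj_id hK a)) :=
  (hK.1 a.2).2

theorem obj_comp {S T U : 𝒮} (f : T ⟶ S) (g : U ⟶ T) (a : p.Fiber S) :
    (K.inverseImage (g ≫ f)).obj a = (K.inverseImage g).obj ((K.inverseImage f).obj a) :=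
  Subtype.ext (hK.2 f g a.2).1.symm

theorem lift_comp {S T U : 𝒮} (f : T ⟶ S) (g : U ⟶ T) (a : p.Fiber S) :
    K.lift ((K.inverseImage f).obj a).2 g ≫ K.lift a.2 f =
      eqToHom (congrArg Subtype.val (obj_comp hK f g a)).symm ≫ K.lift a.2 (g ≫ f) :=
  (hK.2 f g a.2).2

theorem inverseImage_id (S : 𝒮) : K.inverseImage (𝟙 S) = 𝟭 (p.Fiber S) :=
  CategoryTheory.Functor.ext (obj_id hK) fun a b φ => hom_ext_lift K (𝟙 S) (by
    rw [inv_fac, val_comp, val_comp, val_eqToHom, val_eqToHom, lift_id hK a, lift_id hK b]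
    simp)

theorem inverseImage_comp {S T U : 𝒮} (f : T ⟶ S) (g : U ⟶ T) :
    K.inverseImage (g ≫ f) = K.inverseImage f ⋙ K.inverseImage g :=
  CategoryTheory.Functor.ext (obj_comp hK f g) fun a b φ => hom_ext_lift K (g ≫ f) (by
    rw [inv_fac, val_comp, val_comp, val_eqToHom, val_eqToHom, Category.assoc, Category.assoc,
      ← lift_comp hK f g b, Functor.comp_map, reassoc_of% (inv_fac K g ((K.inverseImage f).map φ)),
      inv_fac, ← Category.assoc (K.lift _ g), lift_comp hK f g a]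
    simp)

/-- The strict functor of fibres. -/
noncomputable def splitF : 𝒮ᵒᵖ ⥤ Cat.{v₂, u₂} where
  obj S := Cat.of (p.Fiber S.unop)
  map f := (K.inverseImage f.unop).toCatHom
  map_id S := Cat.Hom.ext (inverseImage_id hK S.unop)
  map_comp f g := Cat.Hom.ext (inverseImage_comp hK f.unop g.unop)

/-- The split category. -/
abbrev SC : Type _ := Pseudofunctor.CoGrothendieck (splitF hK).toPseudofunctor'

variable {hK}

/-- The fibre component of an object. -/
def fib (X : SC hK) : p.Fiber (Pseudofunctor.CoGrothendieck.base X) :=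
  Pseudofunctor.CoGrothendieck.fiber X

/-- The base component of a morphism. -/
def bm {X Y : SC hK} (φ : X ⟶ Y) :
    Pseudofunctor.CoGrothendieck.base X ⟶ Pseudofunctor.CoGrothendieck.base Y :=
  Pseudofunctor.CoGrothendieck.Hom.base φ

/-- The fibre component of a morphism. -/
def fm {X Y : SC hK} (φ : X ⟶ Y) : fib X ⟶ (K.inverseImage (bm φ)).obj (fib Y) :=
  Pseudofunctor.CoGrothendieck.Hom.fiber φ

theorem bm_id (X : SC hK) : bm (𝟙 X) = 𝟙 _ := rfl

theorem bm_comp {X Y Z : SC hK} (φ : X ⟶ Y) (ψ : Y ⟶ Z) : bm (φ ≫ ψ) = bm φ ≫ bm ψ := rfl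

omit hK in
theorem eqToIso_inv_app {A B : Cat.{v₂, u₂}} {P Q : A ⟶ B} (h : P = Q) (x : A) :
    (eqToIso h).inv.toNatTrans.app x =
      eqToHom (congrArg (fun T : A ⟶ B => T.toFunctor.obj x) h).symm := by
  subst h; rfl

theorem fm_id (X : SC hK) : fm (𝟙 X) = eqToHom (obj_id hK (fib X)).symm :=
  eqToIso_inv_app _ _

theorem fm_comp {X Y Z : SC hK} (φ : X ⟶ Y) (ψ : Y ⟶ Z) :
    fm (φ ≫ ψ) = fm φ ≫ (K.inverseImage (bm φ)).map (fm ψ) ≫
      eqToHom (obj_comp hK (bm ψ) (bm φ) (fib Z)).symm := by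
  have h := eqToIso_inv_app (A := (splitF hK).obj (op (Pseudofunctor.CoGrothendieck.base Z)))
    (B := (splitF hK).obj (op (Pseudofunctor.CoGrothendieck.base X)))
    ((splitF hK).map_comp (bm ψ).op (bm φ).op) (fib Z)
  exact congrArg (fun t => fm φ ≫ (K.inverseImage (bm φ)).map (fm ψ) ≫ t) h

/-- The morphism underlying a morphism of the split category. -/
noncomputable def kHom {X Y : SC hK} (φ : X ⟶ Y) : (fib X).1 ⟶ (fib Y).1 :=
  (fm φ).1 ≫ K.lift (fib Y).2 (bm φ)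

theorem kHom_lift {X Y : SC hK} (φ : X ⟶ Y) : p.IsHomLift (bm φ) (kHom φ) := by
  haveI : p.IsHomLift (𝟙 _) (fm φ).1 := (fm φ).2
  exact @IsHomLift.comp_lift_id_left _ _ _ _ p _ _ _ _ _ (bm φ) (K.lift (fib Y).2 (bm φ)) inferInstance (fm φ).1 (fm φ).2

theorem kHom_id (X : SC hK) : kHom (𝟙 X) = 𝟙 _ := by
  rw [kHom, fm_id, val_eqToHom]
  erw [lift_id hK (fib X)]
  exact eqToHom_trans _ _

theorem kHom_comp {X Y Z : SC hK} (φ : X ⟶ Y) (ψ : Y ⟶ Z) : kHom (φ ≫ ψ) = kHom φ ≫ kHom ψ := by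
  rw [kHom, kHom, kHom, fm_comp, val_comp, val_comp, val_eqToHom]
  simp only [Category.assoc]
  congr 1
  rw [← reassoc_of% (inv_fac K (bm φ) (fm ψ)), lift_comp hK]
  rfl

theorem kHom_inj {X Y : SC hK} {φ ψ : X ⟶ Y} (h : kHom φ = kHom ψ) : φ = ψ := by
  haveI := kHom_lift φ
  have h' : p.IsHomLift (bm ψ) (kHom φ) := h ▸ kHom_lift ψ
  have hb : bm φ = bm ψ := (IsHomLift.fac p (bm φ) (kHom φ)).trans (IsHomLift.fac p (bm ψ) (kHom φ)).symm
  refine Pseudofunctor.CoGrothendieck.Hom.ext φ ψ hb ?_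
  change fm φ = fm ψ ≫ eqToHom (congrArg (fun f => (K.inverseImage f).obj (fib Y)) hb).symm
  refine hom_ext_lift K (bm φ) ?_
  rw [val_comp, val_eqToHom, Category.assoc, lift_congr K hb.symm]
  exact h

variable (hK)

/-- From the split category to `𝒳`. -/
noncomputable def backward : SC hK ⥤ 𝒳 where
  obj X := (fib X).1
  map φ := kHom φ
  map_id := kHom_id
  map_comp := kHom_comp

/-- The object of the split category attached to an object of `𝒳`. -/
def mkObj (S : 𝒮) (a : p.Fiber S) : SC hK := ⟨S, a⟩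

/-- The morphism of the split category attached to a morphism of `𝒳`. -/
noncomputable def mkHom {a b : 𝒳} (φ : a ⟶ b) :
    mkObj hK (p.obj a) (Fiber.mk (a := a) rfl) ⟶ mkObj hK (p.obj b) (Fiber.mk (a := b) rfl) :=
  ⟨p.map φ, (⟨IsCartesian.map p (p.map φ) (K.lift (rfl : p.obj b = p.obj b) (p.map φ)) φ,
    inferInstance⟩ : (Fiber.mk (a := a) rfl : p.Fiber (p.obj a)) ⟶
      (K.inverseImage (p.map φ)).obj (Fiber.mk (a := b) rfl))⟩

theorem kHom_mkHom {a b : 𝒳} (φ : a ⟶ b) : kHom (mkHom hK φ) = φ :=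
  IsCartesian.fac p (p.map φ) (K.lift (rfl : p.obj b = p.obj b) (p.map φ)) φ

/-- From `𝒳` to the split category. -/
noncomputable def forward : 𝒳 ⥤ SC hK where
  obj a := mkObj hK (p.obj a) (Fiber.mk (a := a) rfl)
  map φ := mkHom hK φ
  map_id a := kHom_inj (by rw [kHom_mkHom, kHom_id]; rfl)
  map_comp φ ψ := kHom_inj (by rw [kHom_mkHom, kHom_comp, kHom_mkHom, kHom_mkHom])

theorem mkObj_self (S : 𝒮) (a : p.Fiber S) :
    mkObj hK (p.obj a.1) (Fiber.mk (a := a.1) rfl) = mkObj hK S a := by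
  obtain ⟨a, rfl⟩ := a
  rfl

theorem forward_backward : forward hK ⋙ backward hK = 𝟭 𝒳 :=
  CategoryTheory.Functor.ext (fun _ => rfl) fun a b φ =>
    (kHom_mkHom hK φ).trans (by simp)

theorem backward_forward : backward hK ⋙ forward hK = 𝟭 (SC hK) := by
  refine CategoryTheory.Functor.ext (fun X => mkObj_self hK _ (fib X)) fun X Y φ => kHom_inj ?_
  refine (kHom_mkHom hK (kHom φ)).trans ?_
  rw [kHom_comp, kHom_comp]
  have : ∀ {A B : SC hK} (h : A = B), kHom (eqToHom h) = eqToHom (congrArg (fun X => (fib X).1) h) := by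
    intro A B h; subst h; exact kHom_id A
  rw [this, this]
  simp

theorem forward_forget :
    forward hK ⋙ Pseudofunctor.CoGrothendieck.forget (splitF hK).toPseudofunctor' = p := rfl

end Groth.Agent.SplitFib
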