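import Groth.Agent.SplitFib.Basic

/-!
A category isomorphic over the base to the category built from a strict functor has a splitting.
-/

set_option backward.isDefEq.respectTransparency false
set_option backward.isDefEq.respectTransparency.types false
set_option autoImplicit false

universe v₁ v₂ u₁ u₂

open CategoryTheory CategoryTheory.Functor Opposite Pseudofunctor Pseudofunctor.CoGrothendieck

namespace Groth.Agent.SplitFib

variable {𝒮 : Type u₁} [Category.{v₁} 𝒮] (F : 𝒮ᵒᵖ ⥤ Cat.{v₂, u₂})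

/-- A morphism whose fibre component is an identification of objects. -/
def IsPure {X Y : CoGrothendieck F.toPseudofunctor'} (φ : X ⟶ Y) : Prop :=
  ∃ e, Hom.fiber φ = eqToHom e

variable {F}

theorem IsPure.id (X : CoGrothendieck F.toPseudofunctor') : IsPure F (𝟙 X) :=
  ⟨_, eqToIso_inv_app _ _⟩

theorem IsPure.eqToHom {X Y : CoGrothendieck F.toPseudofunctor'} (h : X = Y) : IsPure F (eqToHom h) := by
  subst h; exact IsPure.id X

theorem IsPure.comp {X Y Z : CoGrothendieck F.toPseudofunctor'} {φ : X ⟶ Y} {ψ : Y ⟶ Z}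
    (hφ : IsPure F φ) (hψ : IsPure F ψ) : IsPure F (φ ≫ ψ) := by
  obtain ⟨e, he⟩ := hφ
  obtain ⟨e', he'⟩ := hψ
  refine ⟨?_, ?_⟩
  rotate_left
  · rw [categoryStruct_comp_fiber, he, he', eqToHom_map]
    erw [eqToIso_inv_app]
    rw [eqToHom_trans, eqToHom_trans]

theorem IsPure.cartesianLift {R S : 𝒮} (f : R ⟶ S) (a : F.toPseudofunctor'.obj ⟨op S⟩) :
    IsPure F (cartesianLift a f) :=
  ⟨rfl, rfl⟩

theorem IsPure.ext {X Y : CoGrothendieck F.toPseudofunctor'} {φ ψ : X ⟶ Y}
    (hφ : IsPure F φ) (hψ : IsPure F ψ) (hb : Hom.base φ = Hom.base ψ) : φ = ψ := by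
  obtain ⟨e, he⟩ := hφ
  obtain ⟨e', he'⟩ := hψ
  exact Hom.ext _ _ hb (by rw [he, he', eqToHom_trans])

theorem eqToHom_base {X Y : CoGrothendieck F.toPseudofunctor'} (h : X = Y) :
    Hom.base (eqToHom h) = eqToHom (congrArg CoGrothendieck.base h) := by
  subst h; rfl

variable (F)

theorem mapId_obj (S : 𝒮) (x : F.toPseudofunctor'.obj ⟨op S⟩) (f : S ⟶ S) (hf : f = 𝟙 S) :
    (F.toPseudofunctor'.map f.op.toLoc).toFunctor.obj x = x := by
  subst hf
  show (F.map (𝟙 (op S))).toFunctor.obj x = x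
  rw [F.map_id]; rfl

theorem mapComp_obj {R T S : 𝒮} (x : F.toPseudofunctor'.obj ⟨op S⟩) (f : T ⟶ S) (g : R ⟶ T) (h : R ⟶ S)
    (hh : h = g ≫ f) :
    (F.toPseudofunctor'.map g.op.toLoc).toFunctor.obj ((F.toPseudofunctor'.map f.op.toLoc).toFunctor.obj x) =
      (F.toPseudofunctor'.map h.op.toLoc).toFunctor.obj x := by
  subst hh
  show (F.map g.op).toFunctor.obj ((F.map f.op).toFunctor.obj x) = (F.map (g ≫ f).op).toFunctor.obj x
  rw [op_comp, F.map_comp]; rfl

theorem canonical_isSplitting : (FibCat.Cleavage.ofCoGrothendieck F.toPseudofunctor').IsSplitting := by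
  constructor
  · rintro S ⟨S', x⟩ ha
    have ha' : S' = S := ha
    subst ha'
    have h : domainCartesianLift (F := F.toPseudofunctor') x (𝟙 S' ≫ CategoryTheory.eqToHom ha.symm) = ⟨S', x⟩ :=
      CoGrothendieck.ext rfl (heq_of_eq (mapId_obj F S' x _ (by simp)))
    refine ⟨h, IsPure.ext (IsPure.cartesianLift _ _) (IsPure.eqToHom h) ?_⟩
    rw [eqToHom_base]
    exact (Category.id_comp _)
  · rintro S T U f g ⟨S', x⟩ ha
    have ha' : S' = S := ha
    subst ha'
    refine ⟨CoGrothendieck.ext rfl (heq_of_eq (mapComp_obj F x _ _ _ ?_)),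
      IsPure.ext ((IsPure.cartesianLift _ _).comp (IsPure.cartesianLift _ _))
        ((IsPure.eqToHom _).comp (IsPure.cartesianLift _ _)) ?_⟩
    · simp
    · rw [categoryStruct_comp_base, categoryStruct_comp_base, eqToHom_base]
      show (g ≫ CategoryTheory.eqToHom _) ≫ (f ≫ CategoryTheory.eqToHom _) = _ ≫ (g ≫ f) ≫ CategoryTheory.eqToHom _
      simp only [eqToHom_refl, Category.comp_id]
      exact (Category.id_comp _).symm

variable {F} {𝒳 : Type u₂} [Category.{v₂} 𝒳] {p : 𝒳 ⥤ 𝒮}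
  {Φ : 𝒳 ⥤ CoGrothendieck F.toPseudofunctor'} {Ψ : CoGrothendieck F.toPseudofunctor' ⥤ 𝒳}

theorem exists_splitting_of_iso (h₁ : Φ ⋙ Ψ = 𝟭 𝒳) (h₂ : Ψ ⋙ Φ = 𝟭 _)
    (h₃ : Φ ⋙ CoGrothendieck.forget F.toPseudofunctor' = p) :
    ∃ K : FibCat.Cleavage p, K.IsSplitting := by
  subst h₃
  set q := CoGrothendieck.forget F.toPseudofunctor'
  let L := FibCat.Cleavage.ofCoGrothendieck F.toPseudofunctor'
  have hL := canonical_isSplitting F
  have eX : ∀ a, Ψ.obj (Φ.obj a) = a := fun a => Functor.congr_obj h₁ a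
  have eY : ∀ a, Φ.obj (Ψ.obj a) = a := fun a => Functor.congr_obj h₂ a
  have mX : ∀ {a b : 𝒳} (φ : a ⟶ b), Ψ.map (Φ.map φ) = eqToHom (eX a) ≫ φ ≫ eqToHom (eX b).symm :=
    fun φ => Functor.congr_hom h₁ φ
  have mY : ∀ {a b} (φ : a ⟶ b), Φ.map (Ψ.map φ) = eqToHom (eY a) ≫ φ ≫ eqToHom (eY b).symm :=
    fun φ => Functor.congr_hom h₂ φ
  let K : FibCat.Cleavage (Φ ⋙ q) :=
    { obj := fun {R S a} ha f => Ψ.obj (L.obj (a := Φ.obj a) ha f)
      lift := fun {R S a} ha f => Ψ.map (L.lift (a := Φ.obj a) ha f) ≫ eqToHom (eX a)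
      isCartesian := fun {R S a} ha f => by
        have key : Φ.map (Ψ.map (L.lift (a := Φ.obj a) ha f) ≫ eqToHom (eX a)) =
            eqToHom (eY _) ≫ L.lift (a := Φ.obj a) ha f := by
          rw [Functor.map_comp, mY, eqToHom_map]; simp
        haveI := L.isCartesian (a := Φ.obj a) ha f
        haveI hc : q.IsCartesian f (eqToHom (eY (L.obj (a := Φ.obj a) ha f)) ≫ L.lift (a := Φ.obj a) ha f) := by
          haveI : q.IsHomLift (𝟙 R) (eqToIso (eY (L.obj (a := Φ.obj a) ha f))).hom :=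
            IsHomLift.eqToHom_codomain_lift_id (eY _) (L.obj_proj (a := Φ.obj a) ha f)
          exact IsCartesian.of_iso_comp q f (L.lift (a := Φ.obj a) ha f) (eqToIso (eY _))
        exact
          { toIsHomLift := IsHomLift.of_fac' _ f _ (congrArg q.obj (eY _) |>.trans (L.obj_proj (a := Φ.obj a) ha f)) ha (by
              show q.map (Φ.map _) = _
              rw [key]
              exact IsHomLift.fac' q f _)
            universal_property := fun {a'} φ' hφ' => by
              haveI : q.IsHomLift f (Φ.map φ') :=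
                IsHomLift.of_fac' q f _ (IsHomLift.domain_eq (Φ ⋙ q) f φ') (IsHomLift.codomain_eq (Φ ⋙ q) f φ')
                  (IsHomLift.fac' (Φ ⋙ q) f φ')
              let χ := IsCartesian.map q f (eqToHom (eY (L.obj (a := Φ.obj a) ha f)) ≫ L.lift (a := Φ.obj a) ha f) (Φ.map φ')
              refine ⟨eqToHom (eX a').symm ≫ Ψ.map χ ≫ eqToHom (eX _), ⟨?_, ?_⟩, ?_⟩
              · refine IsHomLift.of_fac' _ _ _ (IsHomLift.domain_eq (Φ ⋙ q) f φ')
                  (congrArg q.obj (eY _) |>.trans (L.obj_proj (a := Φ.obj a) ha f)) ?_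
                have hχ := IsHomLift.fac' q (𝟙 R) χ
                show q.map (Φ.map _) = _
                simp only [Functor.map_comp, eqToHom_map, mY, hχ]
                simp
              · have hfac : χ ≫ Φ.map (Ψ.map (L.lift (a := Φ.obj a) ha f) ≫ eqToHom (eX a)) = Φ.map φ' := by
                  rw [key]; exact IsCartesian.fac q f _ (Φ.map φ')
                have := congrArg Ψ.map hfac
                rw [Functor.map_comp, mX, mX] at this
                rw [← cancel_epi (eqToHom (eX a')), ← cancel_mono (eqToHom (eX a).symm)]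
                simpa using this
              · rintro χ' ⟨hl, hfac⟩
                have : Φ.map χ' = χ := by
                  haveI : q.IsHomLift (𝟙 R) (Φ.map χ') :=
                    IsHomLift.of_fac' q _ _ (IsHomLift.domain_eq (Φ ⋙ q) (𝟙 R) χ') (IsHomLift.codomain_eq (Φ ⋙ q) (𝟙 R) χ')
                      (IsHomLift.fac' (Φ ⋙ q) (𝟙 R) χ')
                  refine IsCartesian.map_uniq q f _ _ _ ?_
                  rw [← key, ← Functor.map_comp, hfac]
                rw [← this, mX]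
                simp } }
  refine ⟨K, ?_, ?_⟩
  · intro S a ha
    obtain ⟨h, e⟩ := hL.1 (show q.obj (Φ.obj a) = S from ha)
    exact ⟨(congrArg Ψ.obj h).trans (eX a), by
      show Ψ.map _ ≫ _ = _
      rw [e, eqToHom_map, eqToHom_trans]⟩
  · intro S T U f g a ha
    obtain ⟨h, e⟩ := hL.2 f g (show q.obj (Φ.obj a) = S from ha)
    have hc : ∀ {c c' : CoGrothendieck F.toPseudofunctor'} (hcc : c = c') (hc : q.obj c = T) (hc' : q.obj c' = T),
        L.lift hc g ≫ eqToHom hcc = eqToHom (by subst hcc; rfl) ≫ L.lift hc' g := by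
      intro c c' hcc hc hc'; subst hcc; simp
    refine ⟨(congrArg Ψ.obj ?_).trans (congrArg Ψ.obj h), ?_⟩
    · congr 1; exact eY _
    · show (Ψ.map _ ≫ eqToHom (eX (Ψ.obj (L.obj (a := Φ.obj a) ha f)))) ≫ Ψ.map _ ≫ eqToHom _ = _
      have hcc := hc (eY (L.obj (a := Φ.obj a) ha f)) (congrArg q.obj (eY _) |>.trans (L.obj_proj (a := Φ.obj a) ha f))
        (L.obj_proj (a := Φ.obj a) ha f)
      have : (eqToHom (eX (Ψ.obj (L.obj (a := Φ.obj a) ha f))) : _ ⟶ _) =
          Ψ.map (eqToHom (eY (L.obj (a := Φ.obj a) ha f))) := (eqToHom_map _ _).symm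
      rw [this, ← Functor.map_comp, ← Functor.map_comp_assoc, hcc, Category.assoc, e]
      show _ = eqToHom _ ≫ Ψ.map _ ≫ eqToHom _
      rw [Functor.map_comp, Functor.map_comp, eqToHom_map, eqToHom_map]
      simp
      rfl

end Groth.Agent.SplitFib
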